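import Cfsg.Agent.PiHomogOdd.PSL
import Cfsg.Agent.Walter.Main
import Cfsg.Agent.GWDihedral.Main
import Cfsg.Agent.Ree.Main
import Cfsg.Prelude.Def_Sporadic

/-!
π-homogeneous groups with π odd and dihedral or abelian Sylow 2-subgroups are π′-closed (row 4047), from the
determination of the groups of Janko–Ree type and the real elements of the groups of Ree order.
-/

set_option autoImplicit false
set_option linter.unusedSectionVars false
set_option linter.style.haveILetI false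

namespace Cfsg.Lib.PiHomog

open Subgroup

universe u

/-- In the configuration of Ree type, elements of prime order dividing `q² - q + 1` are inverted by involutions. -/
def RealProp : Prop :=
  ∀ (G : Type u) [Group G] [Finite G] (t : G) (E : Subgroup G) (F : Type) [Field F] [Fintype F],
    Ree.Setting t E F → ∀ p : ℕ, p.Prime → p ∣ Fintype.card F ^ 2 - Fintype.card F + 1 →
      ∀ g : G, orderOf g = p → ∃ i : G, i * i = 1 ∧ i * g * i⁻¹ = g⁻¹

/-- The groups of Janko–Ree type are of the order of `J₁` or in the configuration of Ree type. -/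
def JRSplit : Prop :=
  ∀ (X : Type u) [Group X] [Finite X] [IsSimpleGroup X], ¬ IsMulCommutative X → Walter.AbTwo X →
    Walter.IsJR X → Cfsg.IsJ1 X ∨
      ∃ (t : X) (E : Subgroup X) (F : Type) (_ : Field F) (_ : Fintype F), Ree.Setting t E F

variable {π : Set ℕ} {X : Type u} [Group X] [Finite X]

theorem three_dvd_psl {F : Type} [Field F] [Fintype F] :
    3 ∣ Nat.card (Matrix.ProjectiveSpecialLinearGroup (Fin 2) F) := by
  have hc := Cfsg.Lib.Classical.SmallPSL.card_psl (F := F) rfl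
  set q := Fintype.card F
  have h3 : 3 ∣ q * (q ^ 2 - 1) := by
    rw [show q ^ 2 - 1 = (q + 1) * (q - 1) by rw [← one_pow 2, Nat.sq_sub_sq, one_pow]]
    rcases (show q % 3 = 0 ∨ q % 3 = 1 ∨ q % 3 = 2 by omega) with h | h | h
    · exact Dvd.dvd.mul_right (Nat.dvd_of_mod_eq_zero h) _
    · exact Dvd.dvd.mul_left (Dvd.dvd.mul_left (show 3 ∣ q - 1 by omega) _) _
    · exact Dvd.dvd.mul_left (Dvd.dvd.mul_right (show 3 ∣ q + 1 by omega) _) _
  rw [← hc] at h3
  refine (Nat.prime_three.dvd_mul.1 h3).resolve_left fun h => ?_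
  have := Nat.le_of_dvd (Nat.gcd_pos_of_pos_left _ two_pos) h
  have := Nat.le_of_dvd two_pos (Nat.gcd_dvd_left 2 (q - 1))
  omega

/-- No prime of the order of a simple group with the hypotheses lies in π. -/
theorem OddHyp.simple (hJR : JRSplit.{u}) (hR : RealProp.{u}) [IsSimpleGroup X] (hnab : ¬ IsMulCommutative X)
    (hodd : ∀ p ∈ π, p ≠ 2) (h : OddHyp π X) : ∀ p : ℕ, p.Prime → p ∣ Nat.card X → p ∉ π := by
  haveI : Fact (Nat.Prime 2) := ⟨Nat.prime_two⟩
  obtain ⟨S⟩ : Nonempty (Sylow 2 X) := inferInstance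
  rcases AD.cases S.2 (h.2 S) with hS | ⟨m, hm, hd⟩
  swap
  · rcases GWD.dihedralProp X S m hm hd with ⟨F, i, j, -, h5, ⟨e⟩⟩ | ⟨⟨e⟩⟩
    · intro p hp hdp
      exact h.1.not_dvd_psl hodd e.symm.toMonoidHom e.symm.injective (by omega) p hp
        (Nat.card_congr e.toEquiv ▸ hdp)
    · have hA : Nat.card X = 2520 := by
        rw [Nat.card_congr e.toEquiv, nat_card_alternatingGroup, Nat.card_fin]; rfl
      have hA' : Hom π (alternatingGroup (Fin 7)) := h.1.comap e.symm.toMonoidHom e.symm.injective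
      have h3 : 3 ∉ π := fun h3 => by
        let y : alternatingGroup (Fin 7) := ⟨Equiv.swap 0 1 * Equiv.swap 1 2, Equiv.Perm.mem_alternatingGroup.2 (by decide)⟩
        let t : alternatingGroup (Fin 7) := ⟨Equiv.swap 1 2 * Equiv.swap 3 4, Equiv.Perm.mem_alternatingGroup.2 (by decide)⟩
        refine hA'.no_real hodd Nat.prime_three h3 (y := y) (t := t) ?_ (by decide) (by decide)
        haveI := Fact.mk Nat.prime_three
        exact orderOf_eq_prime (by decide) (by decide)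
      intro p hp hdp hpπ
      rw [hA, show (2520 : ℕ) = 2 ^ 3 * (3 ^ 2 * (5 * 7)) by norm_num] at hdp
      rcases hp.dvd_mul.1 hdp with h' | h'
      · exact hodd p hpπ ((Nat.prime_dvd_prime_iff_eq hp Nat.prime_two).1 (hp.dvd_of_dvd_pow h'))
      rcases hp.dvd_mul.1 h' with h' | h'
      · exact h3 ((Nat.prime_dvd_prime_iff_eq hp Nat.prime_three).1 (hp.dvd_of_dvd_pow h') ▸ hpπ)
      rcases hp.dvd_mul.1 h' with h' | h'
      · obtain rfl := (Nat.prime_dvd_prime_iff_eq hp (by norm_num)).1 h'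
        refine h.1.prime_order hnab hp hpπ (by rw [hA]; norm_num) (by rw [hA]; norm_num) fun r hr hd hrπ => ?_
        exact hodd r hrπ ((Nat.prime_dvd_prime_iff_eq hr Nat.prime_two).1
          (hr.dvd_of_dvd_pow (n := 2) (by norm_num at hd ⊢; exact hd)))
      · obtain rfl := (Nat.prime_dvd_prime_iff_eq hp (by norm_num)).1 h'
        refine h.1.prime_order hnab hp hpπ (by rw [hA]; norm_num) (by rw [hA]; norm_num) fun r hr hd hrπ => ?_
        rcases hr.dvd_mul.1 (show r ∣ 2 * 3 by norm_num at hd ⊢; exact hd) with h' | h'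
        · exact hodd r hrπ ((Nat.prime_dvd_prime_iff_eq hr Nat.prime_two).1 h')
        · exact h3 ((Nat.prime_dvd_prime_iff_eq hr Nat.prime_three).1 h' ▸ hrπ)
  have hab : Walter.AbTwo X := by
    intro U x hx y hy
    haveI := hS
    exact congrArg Subtype.val ((U.equiv S).injective
      (show U.equiv S (⟨x, hx⟩ * ⟨y, hy⟩) = U.equiv S (⟨y, hy⟩ * ⟨x, hx⟩) by
        rw [map_mul, map_mul]; exact mul_comm' _ _))
  rcases Walter.walterProp X hnab hab with ⟨F, i, j, ⟨n, hn, hF⟩, ⟨e⟩⟩ | ⟨F, i, j, h8, h5, ⟨e⟩⟩ | hJ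
  · intro p hp hdp
    exact h.1.not_dvd_psl hodd e.symm.toMonoidHom e.symm.injective
      (hF ▸ (show 4 ≤ 2 ^ n from le_trans (by norm_num) (Nat.pow_le_pow_right two_pos hn))) p hp
      (Nat.card_congr e.toEquiv ▸ hdp)
  · intro p hp hdp
    exact h.1.not_dvd_psl hodd e.symm.toMonoidHom e.symm.injective (by omega) p hp
      (Nat.card_congr e.toEquiv ▸ hdp)
  rcases hJR X hnab hab hJ with h1 | ⟨t, E, F, i, j, H⟩
  · obtain ⟨-, hA⟩ := h1
    obtain ⟨-, t, E, E₀, F, i, j, h5, -, hH⟩ := hJ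
    obtain ⟨f⟩ := hH.iso
    have h3 : 3 ∉ π := h.1.not_dvd_psl hodd (E₀.subtype.comp f.symm.toMonoidHom)
      (E₀.subtype_injective.comp f.symm.injective) (by omega) 3 Nat.prime_three three_dvd_psl
    have key : ∀ p : ℕ, p.Prime → p ∣ 5 * (7 * (11 * 19)) →
        (∀ r : ℕ, r.Prime → r ∣ p - 1 → r ∉ π) → p ∉ π := fun p hp hd hr hpπ => by
      have hd' : p ∣ Nat.card X := hd.trans (by rw [hA]; norm_num)
      refine h.1.prime_order hnab hp hpπ hd' (fun h2 => ?_) hr
      rw [hA] at h2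
      rcases hp.dvd_mul.1 hd with h' | h'
      · obtain rfl := (Nat.prime_dvd_prime_iff_eq hp (by norm_num)).1 h'; norm_num at h2
      rcases hp.dvd_mul.1 h' with h' | h'
      · obtain rfl := (Nat.prime_dvd_prime_iff_eq hp (by norm_num)).1 h'; norm_num at h2
      rcases hp.dvd_mul.1 h' with h' | h'
      · obtain rfl := (Nat.prime_dvd_prime_iff_eq hp (by norm_num)).1 h'; norm_num at h2
      · obtain rfl := (Nat.prime_dvd_prime_iff_eq hp (by norm_num)).1 h'; norm_num at h2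
    have h2' : ∀ r : ℕ, r.Prime → r ∣ 2 → r ∉ π := fun r hr hd hrπ =>
      hodd r hrπ ((Nat.prime_dvd_prime_iff_eq hr Nat.prime_two).1 hd)
    have h23 : ∀ r : ℕ, r.Prime → r ∣ 2 * 3 → r ∉ π := fun r hr hd => (hr.dvd_mul.1 hd).elim (h2' r hr)
      fun h' => (Nat.prime_dvd_prime_iff_eq hr Nat.prime_three).1 h' ▸ h3
    have h5' : 5 ∉ π := key 5 (by norm_num) (by norm_num) fun r hr hd =>
      h2' r hr (hr.dvd_of_dvd_pow (n := 2) (by norm_num at hd ⊢; exact hd))
    intro p hp hdp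
    rw [hA, show (175560 : ℕ) = 2 ^ 3 * (3 * (5 * (7 * (11 * 19)))) by norm_num] at hdp
    rcases hp.dvd_mul.1 hdp with h' | h'
    · exact h2' p hp (hp.dvd_of_dvd_pow h')
    rcases hp.dvd_mul.1 h' with h' | h'
    · exact (Nat.prime_dvd_prime_iff_eq hp Nat.prime_three).1 h' ▸ h3
    rcases hp.dvd_mul.1 h' with h' | h'
    · exact (Nat.prime_dvd_prime_iff_eq hp (by norm_num)).1 h' ▸ h5'
    rcases hp.dvd_mul.1 h' with h' | h'
    · obtain rfl := (Nat.prime_dvd_prime_iff_eq hp (by norm_num)).1 h'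
      exact key 7 hp (by norm_num) fun r hr hd => h23 r hr (by norm_num at hd ⊢; exact hd)
    rcases hp.dvd_mul.1 h' with h' | h'
    · obtain rfl := (Nat.prime_dvd_prime_iff_eq hp (by norm_num)).1 h'
      refine key 11 hp (by norm_num) fun r hr hd => ?_
      rcases hr.dvd_mul.1 (show r ∣ 2 * 5 by norm_num at hd ⊢; exact hd) with h' | h'
      · exact h2' r hr h'
      · exact (Nat.prime_dvd_prime_iff_eq hr (by norm_num)).1 h' ▸ h5'
    · obtain rfl := (Nat.prime_dvd_prime_iff_eq hp (by norm_num)).1 h'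
      refine key 19 hp (by norm_num) fun r hr hd => ?_
      rcases hr.dvd_mul.1 (show r ∣ 2 * 3 ^ 2 by norm_num at hd ⊢; exact hd) with h' | h'
      · exact h2' r hr h'
      · exact (Nat.prime_dvd_prime_iff_eq hr Nat.prime_three).1 (hr.dvd_of_dvd_pow h') ▸ h3
  -- the configuration of Ree type
  obtain ⟨k, -, hq, hcard⟩ := H.order_eq
  obtain ⟨f⟩ := H.hyp.iso
  have hE : ∀ p : ℕ, p.Prime → p ∣ Nat.card (Matrix.ProjectiveSpecialLinearGroup (Fin 2) F) → p ∉ π :=
    h.1.not_dvd_psl hodd (E.subtype.comp f.symm.toMonoidHom)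
      (E.subtype_injective.comp f.symm.injective) (by have := H.big; omega)
  intro p hp hdp hpπ
  rw [← hq] at hcard
  set q := Fintype.card F with hqdef
  have hc := Cfsg.Lib.Classical.SmallPSL.card_psl (F := F) rfl
  have hpsl : ∀ p : ℕ, p.Prime → p ≠ 2 → p ∣ q * (q ^ 2 - 1) →
      p ∣ Nat.card (Matrix.ProjectiveSpecialLinearGroup (Fin 2) F) := fun p hp hp2 hd => by
    rw [← hc] at hd
    exact (hp.dvd_mul.1 hd).resolve_left fun h' =>
      hp2 ((Nat.prime_dvd_prime_iff_eq hp Nat.prime_two).1 (h'.trans (Nat.gcd_dvd_left 2 _)))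
  have hsq : q ^ 2 - 1 = (q + 1) * (q - 1) := by rw [← one_pow 2, Nat.sq_sub_sq, one_pow]
  have hq2 : q ≤ q ^ 2 := Nat.le_self_pow two_ne_zero q
  rw [hcard, show q ^ 3 + 1 = (q + 1) * (q ^ 2 - q + 1) by zify [hq2]; ring] at hdp
  rcases hp.dvd_mul.1 hdp with h' | h'
  · rcases hp.dvd_mul.1 h' with h' | h'
    · exact hE p hp (hpsl p hp (hodd p hpπ) (Dvd.dvd.mul_right (hp.dvd_of_dvd_pow h') _)) hpπ
    · rcases hp.dvd_mul.1 h' with h' | h'
      · exact hE p hp (hpsl p hp (hodd p hpπ) (Dvd.dvd.mul_left (hsq ▸ Dvd.dvd.mul_right h' _) _)) hpπ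
      · haveI := Fact.mk hp
        obtain ⟨g, hg⟩ := exists_prime_orderOf_dvd_card' (G := X) p (by
          rw [hcard, show q ^ 3 + 1 = (q + 1) * (q ^ 2 - q + 1) by zify [hq2]; ring]
          exact hdp)
        obtain ⟨i', hi', hinv⟩ := hR X t E F H p hp h' g hg
        exact h.1.no_real hodd hp hpπ hg hi' hinv
  · exact hE p hp (hpsl p hp (hodd p hpπ) (Dvd.dvd.mul_left (hsq ▸ Dvd.dvd.mul_left h' _) _)) hpπ

/-- The π′-elements form a subgroup. -/
theorem OddHyp.closed (hJR : JRSplit.{u}) (hR : RealProp.{u}) (hodd : ∀ p ∈ π, p ≠ 2) :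
    ∀ (X : Type u) [Group X] [Finite X], OddHyp π X → Closed π X :=
  closed_of_simple_gen (π := π) (fun X _ _ => OddHyp π X) (fun _ _ _ h => h.1) (fun _ _ _ h => h.subgroup)
    (fun _ _ _ h N _ hN => h.quot N hN) fun X _ _ _ hnab h _ hne =>
      hne (h.simple hJR hR hnab hodd)

/-- The conclusion of row 4047. -/
theorem odd_main (hJR : JRSplit.{u}) (hR : RealProp.{u}) {G : Type u} [Group G] [Finite G] (π : Set ℕ)
    (hodd : ∀ p ∈ π, p.Prime ∧ p ≠ 2)
    (h2 : ∀ S : Sylow 2 G, IsMulCommutative S ∨ ∃ n : ℕ, Nonempty ((S : Subgroup G) ≃* DihedralGroup n))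
    (hhom : ∀ H : Subgroup G, H ≠ ⊥ → (∀ p : ℕ, p.Prime → p ∣ Nat.card ↥H → p ∈ π) →
      ∀ p : ℕ, p.Prime → p ∣ (centralizer (H : Set G)).relIndex (normalizer (H : Set G)) → p ∈ π) :
    ∃ K : Subgroup G, ∀ x : G, x ∈ K ↔ ∀ p : ℕ, p.Prime → p ∣ orderOf x → p ∉ π := by
  refine OddHyp.closed hJR hR (fun p hp => (hodd p hp).2) G ⟨fun H hH p hp hpπ x hx hk => ?_,
    fun S => (h2 S).elim Or.inl fun ⟨n, ⟨e⟩⟩ => AD.of_dihedral e⟩
  by_cases hb : H = ⊥
  · subst hb
    exact mem_centralizer_iff.2 fun a ha => by rw [mem_bot.1 ha, one_mul, mul_one]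
  by_contra hxC
  set N := normalizer (H : Set G)
  set C := (centralizer (H : Set G)).subgroupOf N
  haveI : C.Normal := inferInstance
  have hq1 : ((⟨x, hx⟩ : N) : N ⧸ C) ≠ 1 := fun e => hxC (mem_subgroupOf.1 ((QuotientGroup.eq_one_iff _).1 e))
  obtain ⟨k, hk⟩ := hk
  refine hpπ (hhom H hb hH p hp ?_)
  have hd : orderOf ((⟨x, hx⟩ : N) : N ⧸ C) ∣ p ^ k := by
    rw [← hk, ← Subgroup.orderOf_mk x hx]; exact orderOf_map_dvd (QuotientGroup.mk' C) _
  obtain ⟨j, -, hj⟩ := (Nat.dvd_prime_pow hp).1 hd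
  rcases j with _ | j
  · exact absurd (orderOf_eq_one_iff.1 (by rw [hj, pow_zero])) hq1
  · exact (dvd_pow_self p j.succ_ne_zero).trans (hj ▸ orderOf_dvd_natCard _)

end Cfsg.Lib.PiHomog
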