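import Cfsg.Agent.PiHomog.Basic
import Cfsg.Agent.PGroups.CyclicMaximal
import Mathlib.GroupTheory.Transfer
import Mathlib.GroupTheory.SpecificGroups.Dihedral

/-!
π-homogeneous groups, π odd: 2-subgroups that are abelian or dihedral, real elements, Sylow subgroups of prime
order (row 4047).
-/

set_option autoImplicit false
set_option linter.unusedSectionVars false
set_option linter.style.haveILetI false

namespace Cfsg.Lib.PiHomog

open Subgroup

universe u v

variable {π : Set ℕ}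

/-- Abelian, or a cyclic subgroup of index two inverted by involutions outside it. -/
def AD (S : Type v) [Group S] : Prop :=
  IsMulCommutative S ∨ ∃ a : S, (zpowers a).index ≤ 2 ∧ ∀ x : S, x ∉ zpowers a → x * x = 1 ∧ x * a * x⁻¹ = a⁻¹

theorem AD.of_dihedral {S : Type v} [Group S] {n : ℕ} (e : S ≃* DihedralGroup n) : AD S := by
  have hr : ∀ i : ZMod n, DihedralGroup.r i ∈ zpowers (DihedralGroup.r (1 : ZMod n)) := fun i => by
    obtain ⟨z, rfl⟩ := ZMod.intCast_surjective i
    exact ⟨z, by simp [DihedralGroup.r_one_zpow]⟩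
  have hsr : ∀ i : ZMod n, DihedralGroup.sr i ∉ zpowers (DihedralGroup.r (1 : ZMod n)) := fun i h => by
    obtain ⟨z, hz⟩ := h
    simp [DihedralGroup.r_one_zpow] at hz
  have hmem : ∀ x : S, x ∈ zpowers (e.symm (DihedralGroup.r 1)) ↔
      e x ∈ zpowers (DihedralGroup.r (1 : ZMod n)) := fun x => by
    rw [← MulEquiv.coe_toMonoidHom, ← MonoidHom.map_zpowers, mem_map_equiv, MulEquiv.symm_symm]
  refine Or.inr ⟨e.symm (DihedralGroup.r 1), le_of_eq ?_, fun x hx => ?_⟩
  · refine index_eq_two_iff.2 ⟨e.symm (DihedralGroup.sr 0), fun b => ?_⟩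
    rw [hmem, hmem, map_mul, e.apply_symm_apply]
    rcases e b with i | i
    · exact Or.inr ⟨hr i, by rw [DihedralGroup.r_mul_sr]; exact hsr _⟩
    · exact Or.inl ⟨by rw [DihedralGroup.sr_mul_sr]; exact hr _, hsr i⟩
  · rw [hmem] at hx
    rcases he : e x with i | i
    · exact absurd (hr i) (he ▸ hx)
    · refine ⟨e.injective (by rw [map_mul, he, map_one, DihedralGroup.sr_mul_self]), e.injective ?_⟩
      rw [map_mul, map_mul, map_inv, map_inv, he, e.apply_symm_apply, DihedralGroup.inv_sr,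
        DihedralGroup.sr_mul_r, DihedralGroup.sr_mul_sr, DihedralGroup.inv_r]
      simp

theorem AD.subgroup {S : Type v} [Group S] [Finite S] (h : AD S) (H : Subgroup S) : AD H := by
  rcases h with h | ⟨a, ha, hx⟩
  · exact Or.inl ⟨⟨fun x y => Subtype.ext (h.is_comm.comm (x : S) y)⟩⟩
  haveI : IsCyclic ↥((zpowers a).subgroupOf H) :=
    isCyclic_of_injective
      (f := ((H.subtype).comp ((zpowers a).subgroupOf H).subtype).codRestrict (zpowers a) fun x => mem_subgroupOf.1 x.2)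
      fun x y e => Subtype.ext (Subtype.ext (congrArg (fun z : zpowers a => (z : S)) e))
  obtain ⟨b, hb⟩ := Subgroup.isCyclic_iff_exists_zpowers_eq_top ((zpowers a).subgroupOf H) |>.1 inferInstance
  refine Or.inr ⟨b, ?_, fun x hx' => ?_⟩
  · rw [hb]
    exact le_trans (relIndex_le_of_le_right le_top (by rw [relIndex_top_right]; exact index_ne_zero_of_finite))
      (by rwa [relIndex_top_right])
  · rw [hb] at hx'
    obtain ⟨h1, h2⟩ := hx (x : S) fun e => hx' (mem_subgroupOf.2 e)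
    refine ⟨Subtype.ext h1, Subtype.ext ?_⟩
    obtain ⟨z, hz⟩ := mem_zpowers_iff.1 (mem_subgroupOf.1 (hb ▸ mem_zpowers b : b ∈ (zpowers a).subgroupOf H))
    push_cast
    rw [← hz, ← conj_zpow, h2, inv_zpow]

theorem AD.map {S T : Type v} [Group S] [Finite S] [Group T] (h : AD S) (f : S →* T) (hf : Function.Surjective f) :
    AD T := by
  rcases h with h | ⟨a, ha, hx⟩
  · refine Or.inl ⟨⟨fun x y => ?_⟩⟩
    obtain ⟨x, rfl⟩ := hf x
    obtain ⟨y, rfl⟩ := hf y
    rw [← map_mul, h.is_comm.comm, map_mul]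
  refine Or.inr ⟨f a, le_trans (Nat.le_of_dvd ?_ ?_) ha, fun y hy => ?_⟩
  · exact Nat.pos_of_ne_zero index_ne_zero_of_finite
  · rw [← MonoidHom.map_zpowers]; exact index_map_dvd _ hf
  · obtain ⟨x, rfl⟩ := hf y
    obtain ⟨h1, h2⟩ := hx x fun e => hy (by rw [← MonoidHom.map_zpowers]; exact mem_map_of_mem f e)
    exact ⟨by rw [← map_mul, h1, map_one], by rw [← map_inv, ← map_mul, ← map_mul, h2, map_inv]⟩

variable {G : Type u} [Group G] [Finite G]

/-- A 2-group with the property is abelian or dihedral. -/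
theorem AD.cases {S : Subgroup G} (hS : IsPGroup 2 S) (h : AD S) :
    IsMulCommutative S ∨ ∃ m : ℕ, 2 ≤ m ∧ Nonempty (S ≃* DihedralGroup m) := by
  haveI : Fact (Nat.Prime 2) := ⟨Nat.prime_two⟩
  rcases h with h | ⟨a, ha, hx⟩
  · exact Or.inl h
  by_cases hab : IsMulCommutative S
  · exact Or.inl hab
  obtain ⟨b, hb⟩ : ∃ b : S, b ∉ zpowers a := by
    by_contra! hall
    refine hab ⟨⟨fun x y => ?_⟩⟩
    obtain ⟨i, rfl⟩ := mem_zpowers_iff.1 (hall x)
    obtain ⟨j, rfl⟩ := mem_zpowers_iff.1 (hall y)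
    exact (Commute.refl a).zpow_zpow i j
  have hidx : (zpowers a).index = 2 := by
    have h1 : (zpowers a).index ≠ 1 := fun e => hb (by rw [index_eq_one.1 e]; exact mem_top b)
    have h0 : (zpowers a).index ≠ 0 := index_ne_zero_of_finite
    omega
  obtain ⟨k, hk⟩ := IsPGroup.iff_orderOf.1 hS a
  obtain ⟨hb2, hba⟩ := hx b hb
  have hcard : Nat.card S = 2 ^ (k + 1) := by
    rw [← (zpowers a).card_mul_index, hidx, Nat.card_zpowers, hk, pow_succ]
  have T : CyclicMax.TwoGen a b k (-1) 0 := ⟨hk, hcard, hb, by rw [zpow_neg_one]; exact hba, by rw [zpow_zero]; exact hb2⟩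
  rcases k with _ | k
  · refine absurd ⟨⟨fun x y => ?_⟩⟩ hab
    haveI : IsCyclic S := isCyclic_of_prime_card (p := 2) (by simpa using hcard)
    exact IsCyclic.commGroup.mul_comm x y
  · exact Or.inr ⟨2 ^ (k + 1), Nat.le_self_pow (Nat.succ_ne_zero k) 2, CyclicMax.toDihedral T (Nat.succ_pos k)⟩

/-- The hypotheses of row 4047, inherited by sections. -/
def OddHyp (π : Set ℕ) (G : Type u) [Group G] [Finite G] : Prop := Hom π G ∧ ∀ S : Sylow 2 G, AD S

theorem OddHyp.subgroup (h : OddHyp π G) (M : Subgroup G) : OddHyp π M := by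
  refine ⟨h.1.subgroup M, fun P => ?_⟩
  obtain ⟨Q, hQ⟩ := (P.2.map M.subtype).exists_le_sylow
  exact ((h.2 Q).subgroup (((P : Subgroup M).map M.subtype).subgroupOf (Q : Subgroup G))).map
    ((subgroupOfEquivOfLe hQ).trans ((P : Subgroup M).equivMapOfInjective _ M.subtype_injective).symm).toMonoidHom
    (MulEquiv.surjective _)

theorem OddHyp.quot (h : OddHyp π G) (N : Subgroup G) [N.Normal]
    (hN : IsPi π N ∨ ∀ p : ℕ, p.Prime → p ∣ Nat.card N → p ∉ π) : OddHyp π (G ⧸ N) := by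
  haveI : Fact (Nat.Prime 2) := ⟨Nat.prime_two⟩
  refine ⟨hN.elim (h.1.quot_pi N) (h.1.quot_piPrime N), fun P => ?_⟩
  obtain ⟨S, rfl⟩ := Sylow.mapSurjective_surjective (QuotientGroup.mk'_surjective N) 2 P
  exact (h.2 S).map ((QuotientGroup.mk' N).subgroupMap (S : Subgroup G))
    (MonoidHom.subgroupMap_surjective _ _)

theorem Hom.comap {H : Type v} [Group H] [Finite H] {G : Type u} [Group G] [Finite G] (h : Hom π G) (f : H →* G)
    (hf : Function.Injective f) : Hom π H := by
  intro L hL p hp hpπ x hx hk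
  obtain ⟨k, hk⟩ := hk
  have hc := h (L.map f) (fun q hq hd => hL q hq (by rwa [card_map_of_injective hf] at hd)) p hp hpπ (f x)
    (le_normalizer_map f (mem_map_of_mem f hx)) ⟨k, by rw [orderOf_injective f hf, hk]⟩
  exact mem_centralizer_iff.2 fun a ha => hf (by
    rw [map_mul, map_mul]; exact mem_centralizer_iff.1 hc (f a) (mem_map_of_mem f ha))

/-- No element of odd prime order in π is inverted by an element of order at most two. -/
theorem Hom.no_real (h : Hom π G) (hodd : ∀ p ∈ π, p ≠ 2) {p : ℕ} (hp : p.Prime) (hpπ : p ∈ π) {y t : G}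
    (hy : orderOf y = p) (ht : t * t = 1) (hinv : t * y * t⁻¹ = y⁻¹) : False := by
  haveI := Fact.mk hp
  have hH : IsPi π (zpowers y) := isPi_pGroup hp hpπ (IsPGroup.of_card (n := 1) (by rw [Nat.card_zpowers, hy, pow_one]))
  have hn : t ∈ normalizer (zpowers y : Set G) := by
    refine mem_normalizer_iff_map_conj_eq.2 ?_
    rw [MonoidHom.map_zpowers]
    show zpowers (t * y * t⁻¹) = zpowers y
    rw [hinv, zpowers_inv]
  have hk : ∃ k, orderOf t = 2 ^ k := by
    obtain ⟨k, -, hk⟩ := (Nat.dvd_prime_pow Nat.prime_two).1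
      (orderOf_dvd_of_pow_eq_one (by rw [pow_one, pow_two, ht] : t ^ 2 ^ 1 = 1))
    exact ⟨k, hk⟩
  have hc := mem_centralizer_iff.1 (h _ hH 2 Nat.prime_two (fun h2 => hodd 2 h2 rfl) t hn hk) y (mem_zpowers y)
  rw [← hc, mul_inv_cancel_right] at hinv
  have h2 : orderOf y ∣ 2 := orderOf_dvd_of_pow_eq_one (by rw [pow_two]; exact eq_inv_iff_mul_eq_one.1 hinv)
  rw [hy] at h2
  exact hodd p hpπ ((Nat.prime_dvd_prime_iff_eq hp Nat.prime_two).1 h2)

/-- A simple group has no π-prime with Sylow subgroups of prime order `p` when `p - 1` is a π′-number. -/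
theorem Hom.prime_order [IsSimpleGroup G] (hnab : ¬ IsMulCommutative G) (h : Hom π G) {p : ℕ} (hp : p.Prime)
    (hpπ : p ∈ π) (hd : p ∣ Nat.card G) (hd2 : ¬ p ^ 2 ∣ Nat.card G)
    (hr : ∀ r : ℕ, r.Prime → r ∣ p - 1 → r ∉ π) : False := by
  haveI := Fact.mk hp
  obtain ⟨P⟩ := (inferInstance : Nonempty (Sylow p G))
  have hPc : Nat.card (P : Subgroup G) = p := by
    obtain ⟨k, hk⟩ := IsPGroup.iff_card.1 P.2
    have h1 : p ^ k ∣ Nat.card G := hk ▸ card_subgroup_dvd_card _
    have hk1 : p ∣ p ^ k := hk ▸ P.dvd_card_of_dvd_card hd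
    rcases k with _ | _ | k
    · exact absurd (pow_zero p ▸ hk1) hp.not_dvd_one
    · rw [hk, zero_add, pow_one]
    · exact absurd ((pow_dvd_pow p (by omega)).trans h1) hd2
  have hPπ : IsPi π (P : Subgroup G) := isPi_pGroup hp hpπ P.2
  haveI : IsCyclic (P : Subgroup G) := isCyclic_of_prime_card hPc
  set f := (P : Subgroup G).normalizerMonoidHom
  have hker : ∀ z, f z = 1 ↔ (z : G) ∈ centralizer ((P : Subgroup G) : Set G) := fun z => by
    rw [← MonoidHom.mem_ker, Subgroup.normalizerMonoidHom_ker, mem_subgroupOf]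
  have hcen : normalizer ((P : Subgroup G) : Set G) ≤ centralizer ((P : Subgroup G) : Set G) := by
    intro x hx
    refine (hker ⟨x, hx⟩).1 (orderOf_eq_one_iff.1 ?_)
    by_contra h1
    obtain ⟨r, hrp, hrd⟩ := Nat.exists_prime_and_dvd h1
    haveI := Fact.mk hrp
    have haut : Nat.card (MulAut (P : Subgroup G)) = p - 1 := by
      rw [IsCyclic.card_mulAut, hPc, Nat.totient_prime hp]
    have hrπ := hr r hrp (haut ▸ hrd.trans (orderOf_dvd_natCard _))
    obtain ⟨a, b, ha, -, hab, ⟨k, hk⟩, hb⟩ := Cfsg.Lib.Transfer.exists_pPart r (⟨x, hx⟩ : normalizer ((P : Subgroup G) : Set G))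
    have hfa : f a = 1 := (hker a).2 (h _ hPπ r hrp hrπ a a.2 ⟨k, by rw [orderOf_coe, hk]⟩)
    have hfx : f ⟨x, hx⟩ = f b := by rw [← hab, map_mul, hfa, one_mul]
    exact (hrp.coprime_iff_not_dvd.1 hb.symm) ((hfx ▸ hrd).trans (orderOf_map_dvd f b))
  have hcompl := MonoidHom.ker_transferSylow_isComplement' P hcen
  rcases (inferInstance : (MonoidHom.transferSylow P hcen).ker.Normal).eq_bot_or_eq_top with e | e
  · rw [e, isComplement'_bot_left] at hcompl
    exact hnab ⟨⟨fun x y => congrArg Subtype.val (IsCyclic.commGroup.mul_comm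
      (⟨x, hcompl ▸ mem_top x⟩ : (P : Subgroup G)) ⟨y, hcompl ▸ mem_top y⟩)⟩⟩
  · rw [e, isComplement'_top_left] at hcompl
    rw [hcompl, card_bot] at hPc
    exact hp.ne_one hPc.symm

end Cfsg.Lib.PiHomog
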