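import Cfsg.Agent.PiHomogOdd.Basic
import Cfsg.Agent.Known.AutPSL2
import Cfsg.Agent.Classical.Misc.SmallPSL

/-!
No prime of the order of a subgroup `PSL(2, q)`, `q ≥ 4`, lies in π: semisimple elements are inverted, and the
split torus moves the unipotent group.
-/

set_option autoImplicit false
set_option linter.unusedSectionVars false
set_option linter.style.haveILetI false

namespace Cfsg.Lib.PiHomog

open Subgroup Matrix Cfsg.Lib.Known.AutPSL2

universe u

variable {F : Type} [Field F] [Fintype F]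

local notation "SF" => Matrix.SpecialLinearGroup (Fin 2) F
local notation "PF" => Matrix.ProjectiveSpecialLinearGroup (Fin 2) F
local notation "pr" => QuotientGroup.mk' (Subgroup.center (Matrix.SpecialLinearGroup (Fin 2) F))

theorem exists_trace_zero {a b c d : F} (h : a * d - b * c = 1) (hss : (2 : F) ≠ 0 → (a + d) * (a + d) ≠ 4) :
    ∃ x y z : F, x * x + y * z = -1 ∧ (a - d) * x + c * y + b * z = 0 := by
  by_cases hb : b = 0
  · by_cases hc : c = 0
    · exact ⟨0, 1, -1, by ring, by subst hb hc; ring⟩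
    refine ⟨1, -(a - d) / c, 2 * c / (a - d), ?_, by subst hb; field_simp; ring⟩
    by_cases h2 : (2 : F) = 0
    · rw [h2, zero_mul, zero_div, mul_zero, add_zero]
      linear_combination h2
    have had : a - d ≠ 0 := fun e => hss h2 (by subst hb; linear_combination 4 * h + (a - d) * e)
    field_simp
    ring
  by_cases h2 : (2 : F) = 0
  · exact ⟨1, 0, -(a - d) / b, by linear_combination h2, by field_simp; ring⟩
  set D : F := ((a + d) * (a + d) - 4) / (4 * b * b) with hD
  have h4 : (4 : F) ≠ 0 := by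
    rw [show (4 : F) = 2 * 2 by norm_num]; exact mul_ne_zero h2 h2
  have hD0 : -D ≠ 0 := neg_ne_zero.2 (div_ne_zero (sub_ne_zero.2 (hss h2)) (mul_ne_zero (mul_ne_zero h4 hb) hb))
  have hodd : Fintype.card F % 2 = 1 := by
    obtain ⟨l, hl⟩ := CharP.exists F
    obtain ⟨f, hlp, hF⟩ := FiniteField.card F l
    have hl2 : l ≠ 2 := fun e => h2 (by exact_mod_cast (CharP.cast_eq_zero_iff F l 2).2 (e ▸ dvd_rfl))
    rw [hF]
    exact Nat.odd_iff.1 (Odd.pow (hlp.odd_of_ne_two hl2))
  obtain ⟨u, v, huv⟩ := FiniteField.exists_root_sum_quadratic (R := F)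
    (f := Polynomial.X ^ 2 + Polynomial.C 1) (g := Polynomial.C (-D) * Polynomial.X ^ 2)
    (Polynomial.degree_X_pow_add_C two_pos 1)
    (by rw [Polynomial.degree_C_mul_X_pow 2 hD0]; rfl) hodd
  simp only [Polynomial.eval_add, Polynomial.eval_pow, Polynomial.eval_X, Polynomial.eval_C,
    Polynomial.eval_mul] at huv
  refine ⟨u + (a - d) * v / (2 * b), v, -((a - d) * (u + (a - d) * v / (2 * b)) + c * v) / b, ?_, by field_simp; ring⟩
  rw [hD] at huv
  field_simp at huv ⊢
  first
    | linear_combination huv + 4 * v ^ 2 * h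
    | linear_combination huv - 4 * v ^ 2 * h
    | linear_combination huv + v ^ 2 * h
    | linear_combination huv - v ^ 2 * h

theorem sq_of_trace_zero (M : SF)
    (h : (M : Matrix (Fin 2) (Fin 2) F) 0 0 + (M : Matrix (Fin 2) (Fin 2) F) 1 1 = 0) : M * M = -1 := sl_ext (by
  have hdet := M.2
  rw [det_fin_two] at hdet
  rw [cmul, Matrix.SpecialLinearGroup.coe_neg, cone]
  ext i j
  fin_cases i <;> fin_cases j <;> simp [Matrix.mul_apply, Fin.sum_univ_two]
  · linear_combination (M : Matrix (Fin 2) (Fin 2) F) 0 0 * h - hdet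
  · linear_combination (M : Matrix (Fin 2) (Fin 2) F) 0 1 * h
  · linear_combination (M : Matrix (Fin 2) (Fin 2) F) 1 0 * h
  · linear_combination (M : Matrix (Fin 2) (Fin 2) F) 1 1 * h - hdet)

/-- A semisimple element is inverted by an element of order at most two. -/
theorem exists_inverting (A : SF)
    (hss : (2 : F) ≠ 0 → ((A : Matrix (Fin 2) (Fin 2) F) 0 0 + (A : Matrix (Fin 2) (Fin 2) F) 1 1) *
      ((A : Matrix (Fin 2) (Fin 2) F) 0 0 + (A : Matrix (Fin 2) (Fin 2) F) 1 1) ≠ 4) :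
    ∃ t : PF, t * t = 1 ∧ t * pr A * t⁻¹ = (pr A)⁻¹ := by
  have hdet := A.2
  rw [det_fin_two] at hdet
  obtain ⟨x, y, z, h1, h2⟩ := exists_trace_zero (a := (A : Matrix (Fin 2) (Fin 2) F) 0 0)
    (b := (A : Matrix (Fin 2) (Fin 2) F) 0 1) (c := (A : Matrix (Fin 2) (Fin 2) F) 1 0)
    (d := (A : Matrix (Fin 2) (Fin 2) F) 1 1) hdet hss
  let J : SF := ⟨!![x, y; z, -x], by rw [det_fin_two_of]; linear_combination -h1⟩
  have hJ : J * J = -1 := sq_of_trace_zero J (by simp [J])
  have hJA : J * A * (J * A) = -1 := sq_of_trace_zero (J * A) (by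
    rw [cmul]
    simp [J, Matrix.mul_apply, Fin.sum_univ_two]
    linear_combination h2)
  have hm : pr (-1 : SF) = 1 := (QuotientGroup.eq_one_iff _).2
    (Matrix.SpecialLinearGroup.mem_center_iff.2 ⟨-1, by simp, by
      ext i j; fin_cases i <;> fin_cases j <;> simp [Matrix.scalar_apply]⟩)
  have ht : pr J * pr J = 1 := by rw [← map_mul, hJ, hm]
  refine ⟨pr J, ht, ?_⟩
  rw [inv_eq_of_mul_eq_one_right ht]
  refine eq_inv_of_mul_eq_one_left ?_
  calc pr J * pr A * pr J * pr A = pr (J * A * (J * A)) := by simp only [map_mul, mul_assoc]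
    _ = 1 := by rw [hJA, hm]

theorem Hom.not_dvd_psl {π : Set ℕ} {G : Type u} [Group G] [Finite G] (h : Hom π G) (hodd : ∀ p ∈ π, p ≠ 2)
    (f : PF →* G) (hf : Function.Injective f) (h4 : 4 ≤ Fintype.card F) :
    ∀ p : ℕ, p.Prime → p ∣ Nat.card PF → p ∉ π := by
  classical
  have hP : Hom π PF := h.comap f hf
  obtain ⟨l, hl⟩ := CharP.exists F
  obtain ⟨e, hlp, hF⟩ := FiniteField.card F l
  have key : ∀ p : ℕ, p.Prime → p ∣ Nat.card PF → p ≠ l → p ∉ π := by
    intro p hp hd hpl hpπ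
    haveI := Fact.mk hp
    obtain ⟨y, hy⟩ := exists_prime_orderOf_dvd_card' (G := PF) p hd
    obtain ⟨A, rfl⟩ := QuotientGroup.mk'_surjective _ y
    obtain ⟨t, ht, hinv⟩ := exists_inverting A fun h2 htr => by
      haveI := Fact.mk hlp
      set B : Matrix (Fin 2) (Fin 2) F := (A : Matrix (Fin 2) (Fin 2) F) with hB
      have hdet : B 0 0 * B 1 1 - B 0 1 * B 1 0 = 1 := by rw [← det_fin_two]; exact A.2
      set s : F := (B 0 0 + B 1 1) / 2 with hs
      have hs2 : 2 * s = B 0 0 + B 1 1 := by rw [hs]; field_simp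
      have hs1 : s * s = 1 := by
        rw [hs]; field_simp; linear_combination htr
      have hnil : (B - Matrix.scalar (Fin 2) s) ^ 2 = 0 := by
        rw [pow_two]
        ext i j
        fin_cases i <;> fin_cases j <;>
          simp [Matrix.mul_apply, Fin.sum_univ_two, Matrix.scalar_apply]
        · linear_combination (-(B 0 0)) * hs2 + hs1 - hdet
        · linear_combination (-(B 0 1)) * hs2
        · linear_combination (-(B 1 0)) * hs2
        · linear_combination (-(B 1 1)) * hs2 + hs1 - hdet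
      have hpow : B ^ l = Matrix.scalar (Fin 2) (s ^ l) := by
        haveI : CharP (Matrix (Fin 2) (Fin 2) F) l := inferInstance
        have h0 : (B - Matrix.scalar (Fin 2) s) ^ l = 0 := pow_eq_zero_of_le hlp.two_le hnil
        rw [sub_pow_char_of_commute (p := l) ((Matrix.scalar_commute s (fun r => Commute.all _ _) B).symm), sub_eq_zero,
          ← map_pow] at h0
        exact h0
      have hc : pr A ^ l = 1 := by
        rw [← map_pow]
        refine (QuotientGroup.eq_one_iff _).2 (Matrix.SpecialLinearGroup.mem_center_iff.2 ⟨s ^ l, ?_, ?_⟩)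
        · rw [Fintype.card_fin, ← pow_mul, mul_comm, pow_mul, pow_two, hs1, one_pow]
        · rw [Matrix.SpecialLinearGroup.coe_pow, hpow]
      exact hpl ((Nat.prime_dvd_prime_iff_eq hp hlp).1 (hy ▸ orderOf_dvd_of_pow_eq_one hc))
    exact hP.no_real hodd hp hpπ hy ht hinv
  intro p hp hd
  by_cases hpl : p = l
  swap
  · exact key p hp hd hpl
  subst hpl
  intro hpπ
  haveI := Fact.mk hp
  have hl2 : p ≠ 2 := hodd p hpπ
  have hqodd : Odd (Fintype.card F) := hF ▸ Odd.pow (hp.odd_of_ne_two hl2)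
  have hq5 : 5 ≤ Fintype.card F := by
    obtain ⟨k, hk⟩ := hqodd
    omega
  obtain ⟨g, hg⟩ := IsCyclic.exists_ofOrder_eq_natCard (α := Fˣ)
  rw [Nat.card_eq_fintype_card, Fintype.card_units] at hg
  have hg1 : (g : F) * (g : F) ≠ 1 := fun e1 => by
    have : orderOf g ∣ 2 := orderOf_dvd_of_pow_eq_one (Units.ext (by rw [pow_two, Units.val_mul, Units.val_one]; exact e1))
    have := Nat.le_of_dvd two_pos this
    omega
  let D : Fˣ →* SF :=
    { toFun := fun a => ⟨!![(a : F), 0; 0, ((a⁻¹ : Fˣ) : F)], by simp [det_fin_two]⟩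
      map_one' := sl_ext (by rw [cone, one_fin_two]; simp)
      map_mul' := fun a b => sl_ext (by
        show _ = !![(a : F), 0; 0, ((a⁻¹ : Fˣ) : F)] * !![(b : F), 0; 0, ((b⁻¹ : Fˣ) : F)]
        ext i j; fin_cases i <;> fin_cases j <;>
          simp [Matrix.mul_apply, Fin.sum_univ_two, mul_comm]) }
  set x := pr (D g) with hx
  have hxo : orderOf x ∣ Fintype.card F - 1 := hg ▸ (orderOf_map_dvd _ _).trans (orderOf_map_dvd D g)
  have hcard := Cfsg.Lib.Classical.SmallPSL.card_psl (F := F) rfl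
  have hpi : PiPrime π x := fun r hr hrd hrπ => by
    have hr1 : r ∣ Fintype.card F - 1 := hrd.trans hxo
    refine key r hr ?_ (fun e' => ?_) hrπ
    · rw [Nat.gcd_eq_left (by obtain ⟨k, hk⟩ := hqodd; exact ⟨k, by omega⟩)] at hcard
      refine ((Nat.coprime_primes hr Nat.prime_two).2 (hodd r hrπ)).dvd_of_dvd_mul_left (m := 2) ?_
      rw [hcard]
      refine Dvd.dvd.mul_left (hr1.trans ⟨Fintype.card F + 1, ?_⟩) _
      rw [pow_two, mul_comm (Fintype.card F - 1), ← Nat.sq_sub_sq, one_pow, pow_two]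
    · subst e'
      have : r ∣ Fintype.card F := hF ▸ dvd_pow_self r e.pos.ne'
      exact hr.not_dvd_one (by simpa [Nat.sub_sub_self (show 1 ≤ Fintype.card F by omega)] using Nat.dvd_sub this hr1)
  set U : Subgroup PF := (Cfsg.Lib.Known.AutPSL2.u : Multiplicative F →* PF).range with hU
  have hconj : ∀ z : F, x * pr (uS z) * x⁻¹ = pr (uS ((g : F) * g * z)) := fun z => by
    rw [mul_inv_eq_iff_eq_mul, hx, ← map_mul, ← map_mul]
    refine congrArg _ (sl_ext ?_)
    have hD : ((D g : SF) : Matrix (Fin 2) (Fin 2) F) = !![(g : F), 0; 0, ((g⁻¹ : Fˣ) : F)] := rfl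
    rw [cmul, cmul, hD]
    ext i j
    fin_cases i <;> fin_cases j <;> simp [coe_uS, Matrix.mul_apply, Fin.sum_univ_two]
    field_simp
  have hn : x ∈ normalizer (U : Set PF) := by
    refine mem_normalizer_iff.2 fun w => ⟨?_, ?_⟩
    · rintro ⟨z, rfl⟩
      exact ⟨Multiplicative.ofAdd ((g : F) * g * z.toAdd), (hconj _).symm⟩
    · rintro ⟨z, hz⟩
      refine ⟨Multiplicative.ofAdd (((g⁻¹ : Fˣ) : F) * ((g⁻¹ : Fˣ) : F) * z.toAdd), ?_⟩
      refine mul_left_cancel (mul_right_cancel ((hconj _).trans (?_ : _ = x * w * x⁻¹)))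
      rw [← hz]
      show pr (uS ((g : F) * g * (((g⁻¹ : Fˣ) : F) * ((g⁻¹ : Fˣ) : F) * z.toAdd))) = pr (uS z.toAdd)
      congr 2
      simp only [Units.val_inv_eq_inv_val]
      field_simp
  have hUπ : IsPi π U := isPi_pGroup hp hpπ fun w => ⟨1, by
    obtain ⟨z, hz⟩ := w.2
    refine Subtype.ext ?_
    rw [SubmonoidClass.coe_pow, ← hz, pow_one, ← map_pow, OneMemClass.coe_one]
    have hz0 : z ^ p = 1 := Multiplicative.toAdd.injective (by
      rw [toAdd_pow, toAdd_one, nsmul_eq_mul, CharP.cast_eq_zero, zero_mul])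
    rw [hz0, map_one]⟩
  have hc := mem_centralizer_iff.1 (hP.centralise hUπ hn hpi) (pr (uS 1)) ⟨Multiplicative.ofAdd (1 : F), rfl⟩
  have h3 := hconj 1
  rw [← hc, mul_inv_cancel_right, mul_one] at h3
  exact hg1 (uS_injective_π h3).symm

end Cfsg.Lib.PiHomog
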